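import Cfsg.Agent.Blocks.Basic.Residue
import Cfsg.Agent.Blocks.Defect.Knorr
import Cfsg.Agent.Blocks.Orth.Blocks
import Cfsg.Agent.Chars.Basic
import Mathlib.GroupTheory.QuotientGroup.Basic
import Mathlib.GroupTheory.Sylow

/-!
# Relative traces in the group algebra seen by one irreducible character

For a subgroup `H` and an element `a` of the local group algebra fixed by `H`, `lam χ H a` is the
value of `omega χ` at the relative trace of `a`. A minimal subgroup at which this is not always
small gives Knörr's theorem: a character vanishing at all elements of order `p` has defect zero.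
-/

set_option autoImplicit false
set_option linter.unusedSectionVars false

namespace CfsgLib.Blocks.TraceIdeal

open Cfsg

variable {G : Type*} [Group G]

/-- Conjugation in the group algebra. -/
noncomputable def conjE (g : G) (a : GA G) : GA G :=
  MonoidAlgebra.single g 1 * a * MonoidAlgebra.single g⁻¹ 1

theorem coeff_conjE (g : G) (a : GA G) (x : G) :
    (conjE g a).coeff x = a.coeff (g⁻¹ * x * g) := by
  simp [conjE, MonoidAlgebra.coeff_single_mul_apply, MonoidAlgebra.coeff_mul_single_apply,
    mul_assoc]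

theorem conjE_mul (g : G) (a b : GA G) : conjE g (a * b) = conjE g a * conjE g b := by
  have h : (MonoidAlgebra.single g⁻¹ (1 : ℂ)) * MonoidAlgebra.single g 1 = 1 := by
    rw [MonoidAlgebra.single_mul_single, inv_mul_cancel, one_mul, MonoidAlgebra.one_def]
  simp only [conjE]
  rw [show MonoidAlgebra.single g (1 : ℂ) * a * MonoidAlgebra.single g⁻¹ 1 *
      (MonoidAlgebra.single g 1 * b * MonoidAlgebra.single g⁻¹ 1) =
      MonoidAlgebra.single g (1 : ℂ) * a * (MonoidAlgebra.single g⁻¹ 1 * MonoidAlgebra.single g 1) *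
        b * MonoidAlgebra.single g⁻¹ 1 by noncomm_ring, h]
  noncomm_ring

theorem conjE_conjE (g h : G) (a : GA G) : conjE g (conjE h a) = conjE (g * h) a :=
  ga_ext fun x => by simp [coeff_conjE, mul_assoc]

theorem conjE_single (g s : G) (c : ℂ) :
    conjE g (MonoidAlgebra.single s c) = MonoidAlgebra.single (g * s * g⁻¹) c := by
  simp [conjE, MonoidAlgebra.single_mul_single]

theorem conjE_one (g : G) : conjE g (1 : GA G) = 1 := by
  rw [MonoidAlgebra.one_def, conjE_single]; simp

theorem conjE_sub (g : G) (a b : GA G) : conjE g (a - b) = conjE g a - conjE g b := by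
  simp [conjE, mul_sub, sub_mul]

theorem conjE_sum {ι : Type*} (g : G) (s : Finset ι) (f : ι → GA G) :
    conjE g (∑ i ∈ s, f i) = ∑ i ∈ s, conjE g (f i) := by
  simp [conjE, Finset.mul_sum, Finset.sum_mul]

/-- Fixed by conjugation by the elements of `H`. -/
def Fixed (H : Subgroup G) (a : GA G) : Prop := ∀ h ∈ H, conjE h a = a

theorem Fixed.comm {H : Subgroup G} {a : GA G} (ha : Fixed H a) {h : G} (hh : h ∈ H) :
    MonoidAlgebra.single h 1 * a = a * MonoidAlgebra.single h 1 := by
  conv_rhs => rw [← ha h hh, conjE]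
  rw [mul_assoc _ _ (MonoidAlgebra.single h 1), MonoidAlgebra.single_mul_single, inv_mul_cancel,
    one_mul, ← MonoidAlgebra.one_def, mul_one]

theorem Fixed.mul {H : Subgroup G} {a b : GA G} (ha : Fixed H a) (hb : Fixed H b) :
    Fixed H (a * b) := fun h hh => by rw [conjE_mul, ha h hh, hb h hh]

theorem fixed_one (H : Subgroup G) : Fixed H (1 : GA G) := fun h _ => conjE_one h

theorem fixed_list_prod {H : Subgroup G} (l : List (GA G)) (hl : ∀ a ∈ l, Fixed H a) :
    Fixed H l.prod :=
  List.prod_induction _ (fun _ _ => Fixed.mul) (fixed_one H) hl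

theorem conjE_list_prod (g : G) (l : List (GA G)) :
    conjE g l.prod = (l.map (conjE g)).prod := by
  induction l with
  | nil => simp [conjE_one]
  | cons a l ih => simp [conjE_mul, ih]

theorem Fixed.conjE_eq_of_mk_eq {H : Subgroup G} {a : GA G} (ha : Fixed H a) {g g' : G}
    (h : (g : G ⧸ H) = g') : conjE g a = conjE g' a := by
  rw [show g' = g * (g⁻¹ * g') by group, ← conjE_conjE, ha _ (QuotientGroup.eq.mp h)]

/-- The difference `w - 1`. -/
noncomputable def aug (w : G) : GA G := MonoidAlgebra.single w 1 - 1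

theorem conjE_aug (g w : G) : conjE g (aug w) = aug (g * w * g⁻¹) := by
  rw [aug, conjE_sub, conjE_single, conjE_one]; rfl

variable [Fintype G]

/-- The relative trace. -/
noncomputable def trH (H : Subgroup G) [Fintype (G ⧸ H)] (a : GA G) : GA G :=
  ∑ q : G ⧸ H, conjE q.out a

theorem isCentralElt_trH {H : Subgroup G} [Fintype (G ⧸ H)] {a : GA G} (ha : Fixed H a) :
    IsCentralElt (trH H a) := by
  have key : ∀ h : G, conjE h (trH H a) = trH H a := by
    intro h
    rw [trH, conjE_sum]
    refine Fintype.sum_equiv (MulAction.toPerm h) _ _ fun q => ?_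
    rw [conjE_conjE]
    refine ha.conjE_eq_of_mk_eq ?_
    rw [MulAction.toPerm_apply, QuotientGroup.out_eq']
    conv_rhs => rw [← QuotientGroup.out_eq' q]
    rfl
  intro g h
  conv_lhs => rw [← key h, coeff_conjE]
  congr 1
  group

variable {M : Ideal AlgInt} [hM : M.IsMaximal]

theorem isLocalElt_conjE (g : G) {a : GA G} (ha : IsLocalElt M a) : IsLocalElt M (conjE g a) :=
  fun x => by rw [coeff_conjE]; exact ha _

theorem isLocalElt_single (s : G) {c : ℂ} (hc : MemLocalRing M c) :
    IsLocalElt M (MonoidAlgebra.single s c) := fun x => by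
  classical
  rw [MonoidAlgebra.coeff_single, Finsupp.single_apply]
  split_ifs
  · exact hc
  · exact (localRing M).zero_mem

theorem isLocalElt_aug (w : G) : IsLocalElt M (aug w) :=
  (isLocalElt_single w (localRing M).one_mem).sub isLocalElt_one

theorem isLocalElt_trH {H : Subgroup G} [Fintype (G ⧸ H)] {a : GA G} (ha : IsLocalElt M a) :
    IsLocalElt M (trH H a) :=
  Subring.sum_mem (localElts M G) fun _ _ => isLocalElt_conjE _ ha

/-- `omega χ` at the relative trace. -/
noncomputable def lam (χ : IrrCharacter G) (H : Subgroup G) (a : GA G) : ℂ :=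
  (H.index : ℂ) * omega (χ : G → ℂ) a

variable {χ : IrrCharacter G}

omit hM in
theorem omega_mul_comm (x y : GA G) :
    omega (χ : G → ℂ) (x * y) = omega (χ : G → ℂ) (y * x) := by
  obtain ⟨n, ρ, hρ, he⟩ := χ.2
  rw [← he, omega_apply, omega_apply, ← Finset.sum_div, ← Finset.sum_div, ← trace_asAlgebraHom,
    ← trace_asAlgebraHom, map_mul ρ.asAlgebraHom, map_mul ρ.asAlgebraHom, LinearMap.trace_mul_comm]

omit hM in
theorem omega_conjE (g : G) (a : GA G) :
    omega (χ : G → ℂ) (conjE g a) = omega (χ : G → ℂ) a := by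
  rw [conjE, omega_mul_comm, ← mul_assoc, MonoidAlgebra.single_mul_single, inv_mul_cancel,
    one_mul, ← MonoidAlgebra.one_def, one_mul]

omit hM in
theorem omega_trH {H : Subgroup G} [Fintype (G ⧸ H)] (a : GA G) :
    omega (χ : G → ℂ) (trH H a) = lam χ H a := by
  simp [trH, lam, map_sum, omega_conjE, Finset.sum_const, Subgroup.index_eq_card,
    Nat.card_eq_fintype_card]

theorem memLocalRing_lam {H : Subgroup G} {a : GA G} (hl : IsLocalElt M a) (ha : Fixed H a) :
    MemLocalRing M (lam χ H a) := by
  classical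
  rw [← omega_trH]
  exact memLocalRing_omega ⟨isCentralElt_trH ha, isLocalElt_trH hl⟩ χ

omit hM in
theorem lam_mul_lam {H : Subgroup G} [Fintype (G ⧸ H)] (a : GA G) {b : GA G} (hb : Fixed H b) :
    lam χ H a * lam χ H b = ∑ q : G ⧸ H, lam χ H (a * conjE q.out b) := by
  simp only [lam, ← Finset.mul_sum, ← map_sum]
  rw [show (∑ q : G ⧸ H, conjE q.out b) = trH H b from rfl, omega_mul_comm a,
    omega_mul χ.2 (isCentralElt_trH hb), omega_trH, lam]
  ring

/-- All proper subgroups of `Q` give small relative traces. -/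
def LowSmall (M : Ideal AlgInt) (χ : IrrCharacter G) (Q : Subgroup G) : Prop :=
  ∀ R < Q, ∀ a : GA G, IsLocalElt M a → Fixed R a → MemLocalIdeal M (lam χ R a)

/-- In an equivariant sum only the fixed points count. -/
theorem congr_sum_fixed {Q : Subgroup G} (hQ : LowSmall M χ Q) {X : Type*} [Fintype X]
    [MulAction Q X] [DecidablePred fun x : X => ∀ q : Q, q • x = x] (F : X → GA G)
    (hloc : ∀ x, IsLocalElt M (F x)) (hF : ∀ (q : Q) x, F (q • x) = conjE (q : G) (F x)) :
    Congr M (∑ x, lam χ Q (F x))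
      (∑ x ∈ Finset.univ.filter (fun x : X => ∀ q : Q, q • x = x), lam χ Q (F x)) := by
  classical
  haveI := Fintype.ofFinite (MulAction.orbitRel.Quotient Q X)
  rw [Congr, ← Finset.sum_filter_add_sum_filter_not Finset.univ
    (fun x : X => ∀ q : Q, q • x = x) (fun x => lam χ Q (F x)), add_sub_cancel_left,
    ← Finset.sum_fiberwise _
      (fun x : X => (Quotient.mk'' x : MulAction.orbitRel.Quotient Q X))]
  refine memLocalIdeal_sum _ fun j _ => ?_
  obtain h | ⟨x₀, hx₀⟩ := ((Finset.univ.filter fun x : X => ¬∀ q : Q, q • x = x).filter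
    fun x => (Quotient.mk'' x : MulAction.orbitRel.Quotient Q X) = j).eq_empty_or_nonempty
  · rw [h, Finset.sum_empty]; exact memLocalIdeal_zero
  simp only [Finset.mem_filter, Finset.mem_univ, true_and] at hx₀
  obtain ⟨hnf, rfl⟩ := hx₀
  have hfib : ((Finset.univ.filter fun x : X => ¬∀ q : Q, q • x = x).filter
      fun x => (Quotient.mk'' x : MulAction.orbitRel.Quotient Q X) = Quotient.mk'' x₀) =
      (MulAction.orbit Q x₀).toFinset := by
    ext x
    simp only [Finset.mem_filter, Finset.mem_univ, true_and, Set.mem_toFinset, Quotient.eq'',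
      MulAction.orbitRel_apply]
    refine ⟨fun h => h.2, fun h => ⟨fun hx => hnf ?_, h⟩⟩
    obtain ⟨q, rfl⟩ := h
    have he : x₀ = q • x₀ := by
      have := hx q⁻¹
      rwa [inv_smul_smul] at this
    intro r
    rw [he]
    exact hx r
  have hconst : ∀ x ∈ (MulAction.orbit Q x₀).toFinset, lam χ Q (F x) = lam χ Q (F x₀) := by
    intro x hx
    obtain ⟨q, rfl⟩ := Set.mem_toFinset.mp hx
    simp only [lam, hF, omega_conjE]
  rw [hfib, Finset.sum_congr rfl hconst, Finset.sum_const, nsmul_eq_mul]
  set R := (MulAction.stabilizer Q x₀).map Q.subtype with hR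
  have hlt : R < Q := by
    refine lt_of_le_of_ne (Subgroup.map_subtype_le _) fun he => hnf fun q => ?_
    have hqR : (q : G) ∈ R := by rw [he]; exact q.2
    obtain ⟨r, hr, hrq⟩ := Subgroup.mem_map.mp hqR
    rw [← Subtype.ext hrq]
    exact hr
  have hfix : Fixed R (F x₀) := by
    rintro _ ⟨q, hq, rfl⟩
    have := hF q x₀
    rw [MulAction.mem_stabilizer_iff.mp hq] at this
    exact this.symm
  have hval : ((MulAction.orbit Q x₀).toFinset.card : ℂ) * lam χ Q (F x₀) = lam χ R (F x₀) := by
    rw [← Set.ncard_eq_toFinset_card', ← MulAction.index_stabilizer, lam, lam, hR,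
      Subgroup.index_map_subtype, Nat.cast_mul]
    ring
  rw [hval]
  exact hQ R hlt _ (hloc x₀) hfix

/-- Elements of order dividing `p` of the centre of `Q`. -/
def Omega1 (p : ℕ) (Q : Subgroup G) : Set G :=
  {w | w ∈ Q ∧ w ^ p = 1 ∧ ∀ q ∈ Q, q * w * q⁻¹ = w}

theorem fixed_aug {p : ℕ} {Q : Subgroup G} {w : G} (hw : w ∈ Omega1 p Q) : Fixed Q (aug w) :=
  fun q hq => by rw [conjE_aug, hw.2.2 q hq]

theorem Fixed.comm_aug {p : ℕ} {Q : Subgroup G} {a : GA G} (ha : Fixed Q a) {w : G}
    (hw : w ∈ Omega1 p Q) : Commute a (aug w) :=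
  (Commute.sub_right (show Commute a (MonoidAlgebra.single w 1) from (ha.comm hw.1).symm)
    (Commute.one_right a))

/-- A long product of augmentation elements is small. -/
theorem exists_bound_small {p : ℕ} (hp : IsPModular p M) (Q : Subgroup G) :
    ∃ N : ℕ, ∀ l : List G, (∀ w ∈ l, w ∈ Omega1 p Q) → N ≤ l.length →
      IsSmallElt M (l.map aug).prod := by
  classical
  haveI : Fact p.Prime := ⟨hp.1⟩
  haveI := charP_kres hp
  haveI : CharP (MonoidAlgebra (kres M) G) p :=
    charP_of_injective_algebraMap (algebraMap (kres M) (MonoidAlgebra (kres M) G)).injective p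
  haveI : Module.Finite (kres M) (MonoidAlgebra (kres M) G) :=
    Module.Finite.of_basis (MonoidAlgebra.basis G (kres M))
  let d : G → localElts M G := fun w => ⟨aug w, isLocalElt_aug w⟩
  have hd : ∀ w, reduceHom M G (d w) = MonoidAlgebra.single w 1 - 1 := by
    intro w
    have h1 : reduceHom M G ⟨MonoidAlgebra.single w 1, isLocalElt_single w (localRing M).one_mem⟩ =
        MonoidAlgebra.single w 1 := by
      refine MonoidAlgebra.ext (Finsupp.ext fun x => ?_)
      rw [coeff_reduceHom]
      simp only [MonoidAlgebra.coeff_single, Finsupp.single_apply]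
      split_ifs
      · exact map_one (res M)
      · exact map_zero (res M)
    rw [show d w = ⟨MonoidAlgebra.single w 1, isLocalElt_single w (localRing M).one_mem⟩ - 1 from
      Subtype.ext rfl, map_sub, map_one, h1]
  refine ⟨Module.finrank (kres M) (MonoidAlgebra (kres M) G) + 1, fun l hl hlen => ?_⟩
  have hz : reduceHom M G (l.map d).prod = 0 := by
    rw [map_list_prod, List.map_map]
    refine CfsgLib.Blocks.list_prod_eq_zero_of_nilpotent (k := kres M) _ ?_ ?_ ?_
    · intro a ha
      obtain ⟨w, hw, rfl⟩ := List.mem_map.mp ha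
      refine ⟨p, ?_⟩
      rw [Function.comp_apply, hd, sub_pow_char_of_commute p (Commute.one_right _),
        MonoidAlgebra.single_pow, one_pow, one_pow, (hl w hw).2.1, MonoidAlgebra.one_def,
        sub_self]
    · intro a ha b hb
      obtain ⟨v, hv, rfl⟩ := List.mem_map.mp ha
      obtain ⟨w, hw, rfl⟩ := List.mem_map.mp hb
      have hvw : w * v = v * w := by
        have := (hl v hv).2.2 w (hl w hw).1
        exact mul_inv_eq_iff_eq_mul.mp this
      simp only [Function.comp_apply, hd]
      exact (((show Commute (MonoidAlgebra.single v (1 : kres M)) (MonoidAlgebra.single w 1) by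
        rw [Commute, SemiconjBy, MonoidAlgebra.single_mul_single, MonoidAlgebra.single_mul_single,
          hvw]).sub_right (Commute.one_right _)).sub_left (Commute.one_left _))
    · rw [List.length_map]; omega
  have := reduceHom_eq_zero_iff.mp hz
  rwa [show ((l.map d).prod : GA G) = (l.map aug).prod by
    rw [← (localElts M G).subtype_apply, map_list_prod, List.map_map]; rfl] at this

/-- The augmentation elements of the centre of a minimal subgroup give small relative traces. -/
theorem lam_aug_small {p : ℕ} (hp : IsPModular p M) {Q : Subgroup G} (hQ : LowSmall M χ Q)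
    {a : GA G} (hal : IsLocalElt M a) (ha : Fixed Q a) (w : G) (hw : w ∈ Omega1 p Q) :
    MemLocalIdeal M (lam χ Q (aug w * a)) := by
  classical
  obtain ⟨N, hN⟩ := exists_bound_small hp Q
  have hfixP : ∀ l : List G, (∀ v ∈ l, v ∈ Omega1 p Q) → Fixed Q (l.map aug).prod := fun l hl =>
    fixed_list_prod _ fun b hb => by
      obtain ⟨v, hv, rfl⟩ := List.mem_map.mp hb
      exact fixed_aug (hl v hv)
  have hlocP : ∀ l : List G, IsLocalElt M (l.map aug).prod := fun l =>
    Subring.list_prod_mem (localElts M G) fun b hb => by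
      obtain ⟨v, _, rfl⟩ := List.mem_map.mp hb
      exact isLocalElt_aug v
  suffices key : ∀ i : ℕ, ∀ j : ℕ, N ≤ i + j → ∀ l : List G, (∀ v ∈ l, v ∈ Omega1 p Q) →
      l.length = 2 ^ j → ∀ b : GA G, IsLocalElt M b → Fixed Q b →
        MemLocalIdeal M (lam χ Q ((l.map aug).prod * b)) by
    simpa using key N 0 le_rfl [w] (by simpa using hw) rfl a hal ha
  intro i
  induction i with
  | zero =>
    intro j hj l hl hlen b hbl hb
    rw [← omega_trH]
    refine memLocalIdeal_omega (isCentralElt_trH ((hfixP l hl).mul hb)) (fun x => ?_) χ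
    rw [trH, MonoidAlgebra.coeff_sum, Finsupp.finsetSum_apply]
    refine memLocalIdeal_sum _ fun q _ => ?_
    rw [coeff_conjE]
    refine (hN l hl ?_).mul_right hbl _
    have := (Nat.lt_two_pow_self (n := j)).le
    omega
  | succ i ih =>
    intro j hj l hl hlen b hbl hb
    set x := (l.map aug).prod * b with hx
    have hxl : IsLocalElt M x := (hlocP l).mul hbl
    have hxf : Fixed Q x := (hfixP l hl).mul hb
    by_contra hcon
    refine not_memLocalIdeal_mul (memLocalRing_lam hxl hxf) (memLocalRing_lam hxl hxf) hcon hcon ?_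
    haveI := Fintype.ofFinite (G ⧸ Q)
    rw [lam_mul_lam x hxf]
    refine ((congr_sum_fixed hQ (fun q : G ⧸ Q => x * conjE q.out x)
      (fun q => hxl.mul (isLocalElt_conjE _ hxl)) (fun h q => ?_)).mem_iff).mpr ?_
    · show x * conjE ((h • q : G ⧸ Q)).out x = _
      rw [conjE_mul (h : G) x (conjE q.out x), hxf h h.2, conjE_conjE]
      congr 1
      refine hxf.conjE_eq_of_mk_eq ?_
      rw [QuotientGroup.out_eq']
      conv_lhs => rw [← QuotientGroup.out_eq' q]
      rfl
    refine memLocalIdeal_sum _ fun q hq => ?_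
    have hq' := (Finset.mem_filter.mp hq).2
    set g := q.out with hg
    have hnorm : ∀ h ∈ Q, g⁻¹ * h * g ∈ Q := by
      intro h hh
      have h1 : ((h * g : G) : G ⧸ Q) = (g : G ⧸ Q) := by
        rw [hg, QuotientGroup.out_eq']
        conv_rhs => rw [← hq' ⟨h, hh⟩, ← QuotientGroup.out_eq' q]
        rfl
      have := QuotientGroup.eq.mp h1.symm
      rwa [← mul_assoc] at this
    have hmap : Q.map (MulAut.conj g).toMonoidHom = Q := by
      refine (Subgroup.eq_of_le_of_card_ge (fun h hh => ?_) ?_).symm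
      · exact ⟨g⁻¹ * h * g, hnorm h hh, by simp [mul_assoc]⟩
      · rw [Subgroup.card_map_of_injective (MulAut.conj g).injective]
    have hconjQ : ∀ h ∈ Q, g * h * g⁻¹ ∈ Q := fun h hh => by
      rw [← hmap]; exact ⟨h, hh, rfl⟩
    have hgb : Fixed Q (conjE g b) := fun h hh => by
      rw [conjE_conjE, show h * g = g * (g⁻¹ * h * g) by group, ← conjE_conjE, hb _ (hnorm h hh)]
    have hgO : ∀ v ∈ Omega1 p Q, g * v * g⁻¹ ∈ Omega1 p Q := by
      rintro v ⟨hv1, hv2, hv3⟩
      refine ⟨hconjQ v hv1, by rw [conj_pow, hv2]; group, fun h hh => ?_⟩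
      have := hv3 _ (hnorm h hh)
      calc h * (g * v * g⁻¹) * h⁻¹ = g * ((g⁻¹ * h * g) * v * (g⁻¹ * h * g)⁻¹) * g⁻¹ := by group
        _ = g * v * g⁻¹ := by rw [this]
    set l' := l.map fun v => g * v * g⁻¹ with hl'
    have hl'O : ∀ v ∈ l', v ∈ Omega1 p Q := fun v hv => by
      obtain ⟨u, hu, rfl⟩ := List.mem_map.mp hv
      exact hgO u (hl u hu)
    have hgx : conjE g x = (l'.map aug).prod * conjE g b := by
      rw [hx, conjE_mul, conjE_list_prod, hl', List.map_map, List.map_map]
      congr 2
      exact List.map_congr_left fun v _ => conjE_aug g v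
    have hcomm : Commute b (l'.map aug).prod := Commute.list_prod_right _ _ fun c hc => by
      obtain ⟨v, hv, rfl⟩ := List.mem_map.mp hc
      exact hb.comm_aug (hl'O v hv)
    have hterm : x * conjE g x = ((l ++ l').map aug).prod * (b * conjE g b) := by
      rw [hgx, hx, List.map_append, List.prod_append,
        mul_assoc _ b, ← mul_assoc b, hcomm.eq, mul_assoc _ _ (b * conjE g b), mul_assoc _ b]
    rw [hterm]
    refine ih (j + 1) (by omega) _ (fun v hv => ?_) ?_ _ (hbl.mul (isLocalElt_conjE g hbl))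
      (hb.mul hgb)
    · rcases List.mem_append.mp hv with h | h
      · exact hl v h
      · exact hl'O v h
    · rw [List.length_append, hl', List.length_map, hlen, pow_succ, mul_two]

/-- The points of the group with conjugation by a subgroup. -/
def CPt (G : Type*) := G

noncomputable instance : Fintype (CPt G) := (inferInstance : Fintype G)

instance (Q : Subgroup G) : MulAction Q (CPt G) where
  smul q s := ((q : G) * (show G from s) * (q : G)⁻¹ : G)
  one_smul s := (show ∀ t : G, ((1 : Q) : G) * t * ((1 : Q) : G)⁻¹ = t from fun t => by simp) s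
  mul_smul q r s :=
    (show ∀ t : G, ((q * r : Q) : G) * t * ((q * r : Q) : G)⁻¹ =
        (q : G) * ((r : G) * t * (r : G)⁻¹) * (q : G)⁻¹ from
      fun t => by push_cast; group) s

end CfsgLib.Blocks.TraceIdeal

namespace CfsgLib.Blocks.TraceIdeal

open Cfsg

variable {G : Type*} [Group G] [Fintype G] {M : Ideal AlgInt} [hM : M.IsMaximal]

/-- Knörr: a character vanishing at all elements of order `p` has `p`-defect zero. -/
theorem factorization_charDegree_eq {p : ℕ} (hp : IsPModular p M) (χ : IrrCharacter G)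
    (hvan : ∀ g : G, orderOf g = p → (χ : G → ℂ) g = 0) :
    (charDegree (χ : G → ℂ)).factorization p = (Nat.card G).factorization p := by
  classical
  haveI : Fact p.Prime := ⟨hp.1⟩
  haveI : Finite (Subgroup G) := Finite.of_injective _ SetLike.coe_injective
  obtain ⟨P⟩ : Nonempty (Sylow p G) := inferInstance
  set S : Set (Subgroup G) := {Q | Q ≤ (P : Subgroup G) ∧
    ∃ a : GA G, IsLocalElt M a ∧ Fixed Q a ∧ ¬ MemLocalIdeal M (lam χ Q a)} with hS
  have hPS : (P : Subgroup G) ∈ S := by
    refine ⟨le_rfl, 1, isLocalElt_one, fixed_one _, ?_⟩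
    rw [lam, omega_one χ.2, mul_one, memLocalIdeal_natCast_iff hp]
    exact P.not_dvd_index
  obtain ⟨Q, ⟨⟨hQP, a, hal, ha, hna⟩, hmin⟩⟩ :=
    (Set.toFinite S).exists_minimal ⟨_, hPS⟩
  have hlow : LowSmall M χ Q := fun R hR b hbl hb => by
    by_contra hn
    exact hR.not_ge (hmin ⟨hR.le.trans hQP, b, hbl, hb, hn⟩ hR.le)
  have hG0 : Nat.card G ≠ 0 := Nat.card_pos.ne'
  have hd0 := (Chars.charDegree_pos χ).ne'
  have hdvd := Chars.charDegree_dvd_card χ
  rcases eq_or_ne Q ⊥ with rfl | hQ1
  · -- the trivial subgroup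
    by_contra hne
    have hlt : (charDegree (χ : G → ℂ)).factorization p < (Nat.card G).factorization p :=
      lt_of_le_of_ne ((Nat.factorization_le_iff_dvd hd0 hG0).2 hdvd p) hne
    obtain ⟨m, hm⟩ := hdvd
    have hm0 : m ≠ 0 := by rintro rfl; simp [hG0] at hm
    have hpm : p ∣ m := by
      by_contra h
      rw [hm, Nat.factorization_mul hd0 hm0, Finsupp.add_apply,
        Nat.factorization_eq_zero_of_not_dvd h] at hlt
      simp at hlt
    apply hna
    have hsum : MemLocalRing M (∑ g : G, a.coeff g * (χ : G → ℂ) g) :=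
      mem_localRing.mp ((localRing M).sum_mem fun g _ => (localRing M).mul_mem (hal g)
        (memLocalRing_of_isIntegral (Chars.isIntegral_apply (Chars.isCharacter_coe χ) g)))
    have h1 : (χ : G → ℂ) 1 = (charDegree (χ : G → ℂ) : ℂ) := (Chars.coe_charDegree χ).symm
    have hd0' : (charDegree (χ : G → ℂ) : ℂ) ≠ 0 := by exact_mod_cast hd0
    have : lam χ ⊥ a = (m : ℂ) * ∑ g : G, a.coeff g * (χ : G → ℂ) g := by
      rw [lam, omega_apply, ← Finset.sum_div, Subgroup.index_bot, hm, h1, Nat.cast_mul]
      field_simp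
    rw [this]
    exact memLocalIdeal_mul_right ((memLocalIdeal_natCast_iff hp m).2 hpm) hsum
  · exfalso
    apply hna
    have hQp : IsPGroup p Q := P.isPGroup'.to_le hQP
    haveI : Nontrivial Q := (Subgroup.nontrivial_iff_ne_bot Q).2 hQ1
    haveI : Nontrivial (Subgroup.center Q) := hQp.center_nontrivial
    have hpZ : p ∣ Nat.card (Subgroup.center Q) := by
      obtain ⟨k, hk⟩ := IsPGroup.iff_card.mp (hQp.to_subgroup (Subgroup.center Q))
      rw [hk]
      refine dvd_pow_self p fun hk0 => ?_
      rw [hk0, pow_zero] at hk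
      have := Finite.one_lt_card (α := Subgroup.center Q)
      omega
    obtain ⟨⟨⟨z, hzQ⟩, hzc⟩, hz⟩ := exists_prime_orderOf_dvd_card' p hpZ
    rw [Subgroup.orderOf_mk, Subgroup.orderOf_mk] at hz
    have hzcomm : ∀ q ∈ Q, q * z = z * q := fun q hq =>
      congrArg Subtype.val (Subgroup.mem_center_iff.mp hzc ⟨q, hq⟩)
    have hzO : ∀ w ∈ Subgroup.zpowers z, w ∈ Omega1 p Q := by
      intro w hw
      refine ⟨(Subgroup.zpowers_le.mpr hzQ) hw, ?_, fun q hq => ?_⟩
      · obtain ⟨k, rfl⟩ := hw
        show (z ^ k) ^ p = 1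
        rw [← zpow_natCast, zpow_comm, zpow_natCast, ← hz, pow_orderOf_eq_one, one_zpow]
      · have hc : z ∈ Subgroup.centralizer ({q} : Set G) :=
          Subgroup.mem_centralizer_singleton_iff.mpr (hzcomm q hq).symm
        have := Subgroup.mem_centralizer_singleton_iff.mp
          ((Subgroup.zpowers_le.mpr hc) hw)
        rw [← this, mul_inv_cancel_right]
    set c : G → ℂ := fun s => if s ^ p = 1 then 1 else 0 with hc
    have hcloc : ∀ s, MemLocalRing M (c s) := fun s => by
      rw [hc]; dsimp only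
      split_ifs
      · exact (localRing M).one_mem
      · exact (localRing M).zero_mem
    have hAc : IsCentralElt (ofFun c) := fun g h => by
      simp only [coeff_ofFun, hc, conj_pow, conj_eq_one_iff]
    have hA : omega (χ : G → ℂ) (ofFun c) = 1 := by
      rw [omega_ofFun, Finset.sum_eq_single (1 : G)]
      · simp [hc, div_self (apply_one_ne_zero χ.2)]
      · intro s _ hs
        simp only [hc]
        split_ifs with h
        · rw [hvan s (orderOf_eq_prime h hs)]; simp
        · simp
      · simp
    have hsum : lam χ Q a = ∑ s : CPt G,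
        lam χ Q (a * MonoidAlgebra.single (show G from s) (c s)) := by
      conv_lhs => rw [lam, ← mul_one (omega (χ : G → ℂ) a), ← hA, mul_comm (omega (χ : G → ℂ) a),
        ← omega_mul χ.2 hAc, omega_mul_comm, ← sum_single_coeff (ofFun c), Finset.mul_sum,
        map_sum, Finset.mul_sum]
      rfl
    rw [hsum]
    refine ((congr_sum_fixed hlow (fun s : CPt G => a * MonoidAlgebra.single (show G from s) (c s))
      (fun s => hal.mul (isLocalElt_single _ (hcloc s))) (fun q s => ?_)).mem_iff).mpr ?_
    · show a * MonoidAlgebra.single ((q : G) * (show G from s) * (q : G)⁻¹)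
        (c ((q : G) * (show G from s) * (q : G)⁻¹)) = _
      rw [conjE_mul, ha _ q.2, conjE_single]
      congr 2
      exact hAc (show G from s) q
    haveI := Fintype.ofFinite (G ⧸ Subgroup.zpowers z)
    set T := (Finset.univ : Finset G).filter (fun s => ∀ q : Q, (q : G) * s * (q : G)⁻¹ = s) with hT
    suffices h : MemLocalIdeal M (∑ s ∈ T, lam χ Q (a * MonoidAlgebra.single s (c s))) by
      refine (congrArg (MemLocalIdeal M) ?_).mpr h
      refine Finset.sum_bij (fun (s : CPt G) _ => (show G from s)) (fun s hs => ?_)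
        (fun _ _ _ _ h => h) (fun s hs => ?_) fun _ _ => rfl
      · exact Finset.mem_filter.mpr ⟨Finset.mem_univ _, (Finset.mem_filter.mp hs).2⟩
      · exact ⟨s, Finset.mem_filter.mpr ⟨Finset.mem_univ _, (Finset.mem_filter.mp hs).2⟩, rfl⟩
    rw [← Finset.sum_fiberwise T (fun s : G => (s : G ⧸ Subgroup.zpowers z))]
    refine memLocalIdeal_sum _ fun j _ => ?_
    obtain h | ⟨s₀, hs₀⟩ :=
      (T.filter fun s : G => (s : G ⧸ Subgroup.zpowers z) = j).eq_empty_or_nonempty
    · rw [h, Finset.sum_empty]; exact memLocalIdeal_zero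
    obtain ⟨hs₀T, rfl⟩ := Finset.mem_filter.mp hs₀
    have hs₀c : ∀ q : Q, (q : G) * s₀ * (q : G)⁻¹ = s₀ := (Finset.mem_filter.mp hs₀T).2
    have hfib : (T.filter fun s : G => (s : G ⧸ Subgroup.zpowers z) = s₀) =
        (Subgroup.zpowers z : Set G).toFinset.image (fun w => w * s₀) := by
      have hcom : ∀ w ∈ Subgroup.zpowers z, w * s₀ = s₀ * w := fun w hw =>
        mul_inv_eq_iff_eq_mul.mp (hs₀c ⟨w, (hzO w hw).1⟩)
      ext s
      simp only [Finset.mem_filter, Finset.mem_image, Set.mem_toFinset, SetLike.mem_coe]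
      constructor
      · rintro ⟨-, hs⟩
        have h1 := QuotientGroup.eq.mp hs.symm
        exact ⟨s₀⁻¹ * s, h1, by rw [hcom _ h1, mul_inv_cancel_left]⟩
      · rintro ⟨w, hw, rfl⟩
        refine ⟨Finset.mem_filter.mpr ⟨Finset.mem_univ _, fun q => ?_⟩, ?_⟩
        · rw [show (q : G) * (w * s₀) * (q : G)⁻¹ =
            ((q : G) * w * (q : G)⁻¹) * ((q : G) * s₀ * (q : G)⁻¹) by group, hs₀c,
            (hzO w hw).2.2 q q.2]
        · rw [QuotientGroup.eq, hcom w hw]
          simpa using hw
    rw [hfib, Finset.sum_image fun u _ v _ h => mul_right_cancel h]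
    set f₀ := lam χ Q (a * MonoidAlgebra.single s₀ (c s₀)) with hf₀
    have hfix₀ : Fixed Q (a * MonoidAlgebra.single s₀ (c s₀)) := ha.mul fun q hq => by
      rw [conjE_single, hs₀c ⟨q, hq⟩]
    have hstep : ∀ w ∈ (Subgroup.zpowers z : Set G).toFinset,
        Congr M (lam χ Q (a * MonoidAlgebra.single (w * s₀) (c (w * s₀)))) f₀ := by
      intro w hw
      rw [Set.mem_toFinset, SetLike.mem_coe] at hw
      have hcw : c (w * s₀) = c s₀ := by
        have hcm : Commute w s₀ := mul_inv_eq_iff_eq_mul.mp (hs₀c ⟨w, (hzO w hw).1⟩)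
        simp only [hc, hcm.mul_pow, (hzO w hw).2.1, one_mul]
      rw [Congr, hcw, hf₀, lam, lam, ← mul_sub, ← map_sub]
      have := lam_aug_small hp hlow (hal.mul (isLocalElt_single s₀ (hcloc s₀))) hfix₀ w (hzO w hw)
      rw [lam] at this
      convert this using 3
      rw [aug, sub_mul, one_mul, ← mul_assoc, ha.comm (hzO w hw).1, mul_assoc,
        MonoidAlgebra.single_mul_single, one_mul]
    refine ((congr_sum _ hstep).mem_iff).mpr ?_
    rw [Finset.sum_const, nsmul_eq_mul, ← Set.ncard_eq_toFinset_card', ← Nat.card_coe_set_eq]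
    refine memLocalIdeal_mul_right ?_ (memLocalRing_lam
      (hal.mul (isLocalElt_single s₀ (hcloc s₀))) hfix₀)
    rw [memLocalIdeal_natCast_iff hp]
    exact dvd_of_eq ((Nat.card_zpowers z).trans hz).symm

end CfsgLib.Blocks.TraceIdeal
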